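import Groth.Prelude.Def_CAlgX
import Mathlib.RingTheory.Regular.RegularSequence
import Mathlib.RingTheory.Ideal.AssociatedPrime.Finiteness
import Mathlib.RingTheory.Localization.AtPrime.Basic
import Mathlib.RingTheory.Localization.Integer
import Mathlib.LinearAlgebra.Matrix.ToLin

/-!
Complexes of free modules given by matrices: the acyclicity step of Buchsbaum-Eisenbud.
-/

set_option autoImplicit false

universe u

open Matrix

namespace L02.CAlg.BE

variable {R : Type u} [CommRing R] {n : ℕ → ℕ}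

/-- Matrices of a sequence `⋯ → R^(n 1) → R^(n 0)`. -/
abbrev Seq (R : Type u) (n : ℕ → ℕ) : Type u :=
  (i : ℕ) → Matrix (Fin (n i)) (Fin (n (i + 1))) R

/-- Exactness at the targets of `A (i+1)`, `i < e`. -/
def ExactLT (A : Seq R n) (e : ℕ) : Prop :=
  ∀ i < e, ∀ z, A i *ᵥ z = 0 → ∃ w, A (i + 1) *ᵥ w = z

/-- A splitting `1 = A(i+1) g + h A(i)`. -/
def SplitAt (A : Seq R n) (i : ℕ) : Prop :=
  ∃ g h, (1 : Matrix (Fin (n (i + 1))) (Fin (n (i + 1))) R) = A (i + 1) * g + h * A i

theorem SplitAt.exact {A : Seq R n} {i : ℕ} (h : SplitAt A i) (z : Fin (n (i + 1)) → R)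
    (hz : A i *ᵥ z = 0) : ∃ w, A (i + 1) *ᵥ w = z := by
  obtain ⟨g, k, hgk⟩ := h
  refine ⟨g *ᵥ z, ?_⟩
  conv_rhs => rw [← one_mulVec z, hgk, add_mulVec, ← mulVec_mulVec, ← mulVec_mulVec, hz,
    mulVec_zero, add_zero]

/-- Base change of a sequence. -/
def Seq.map {S : Type u} [CommRing S] (A : Seq R n) (φ : R →+* S) : Seq S n :=
  fun i => (A i).map φ

theorem Seq.map_apply {S : Type u} [CommRing S] (A : Seq R n) (φ : R →+* S) (i : ℕ) :
    Seq.map A φ i = (A i).map φ := rfl

theorem SplitAt.map {S : Type u} [CommRing S] {A : Seq R n} {i : ℕ} (h : SplitAt A i)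
    (φ : R →+* S) : SplitAt (Seq.map A φ) i := by
  obtain ⟨g, k, hgk⟩ := h
  refine ⟨g.map φ, k.map φ, ?_⟩
  have := congrArg (fun M => M.map φ) hgk
  simpa [Matrix.map_one, Matrix.map_add, Matrix.map_mul, Seq.map_apply] using this

theorem Seq.map_comp {S : Type u} [CommRing S] (A : Seq R n) (φ : R →+* S)
    (h : ∀ i, A i * A (i + 1) = 0) (i : ℕ) : Seq.map A φ i * Seq.map A φ (i + 1) = 0 := by
  rw [Seq.map_apply, Seq.map_apply, ← Matrix.map_mul, h i]
  ext; simp

theorem exists_eq_smul_of_mk_eq_zero {x : R} {m : ℕ} {v : Fin m → R}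
    (h : (Ideal.Quotient.mk (Ideal.span {x})) ∘ v = 0) : ∃ u, v = x • u := by
  have h' : ∀ i, ∃ c, v i = x * c := fun i =>
    Ideal.mem_span_singleton.mp (Ideal.Quotient.eq_zero_iff_mem.mp (congrFun h i))
  choose u hu using h'
  exact ⟨u, funext fun i => hu i⟩

theorem mk_comp_eq_zero_of_smul {x : R} {m : ℕ} (u : Fin m → R) :
    (Ideal.Quotient.mk (Ideal.span {x})) ∘ (x • u) = 0 :=
  funext fun _ => Ideal.Quotient.eq_zero_iff_mem.mpr
    (Ideal.mem_span_singleton.mpr (dvd_mul_right _ _))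

theorem smul_right_cancel_fun {x : R} (hx : IsSMulRegular R x) {m : ℕ} {u v : Fin m → R}
    (h : x • u = x • v) : u = v :=
  funext fun i => hx (congrFun h i)

theorem map_mulVec_comp {S : Type*} [CommRing S] (φ : R →+* S) {a b : ℕ}
    (M : Matrix (Fin a) (Fin b) R) (v : Fin b → R) : φ ∘ (M *ᵥ v) = M.map φ *ᵥ (φ ∘ v) :=
  funext fun i => RingHom.map_mulVec φ M v i

/-- The shifted sequence modulo `x`. -/
def Seq.modShift (A : Seq R n) (x : R) : Seq (R ⧸ Ideal.span {x}) (fun i => n (i + 1)) :=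
  fun i => (A (i + 1)).map (Ideal.Quotient.mk (Ideal.span {x}))

/-- A cycle modulo `x` lifts, up to the torsion of the original sequence, to a boundary. -/
theorem exists_modShift_preimage {A : Seq R n} {x y : R} (hx : IsSMulRegular R x)
    (hA : ∀ i, A i * A (i + 1) = 0) {i : ℕ}
    (htor : ∀ z, A i *ᵥ z = 0 → ∃ N, ∃ w, A (i + 1) *ᵥ w = y ^ N • z)
    (htor' : ∀ z, A (i + 1) *ᵥ z = 0 → ∃ N, ∃ w, A (i + 2) *ᵥ w = y ^ N • z)
    {zb : Fin (n (i + 1 + 1)) → R ⧸ Ideal.span {x}} (hz : Seq.modShift A x i *ᵥ zb = 0) :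
    ∃ N, ∃ w, Seq.modShift A x (i + 1) *ᵥ w = (Ideal.Quotient.mk (Ideal.span {x}) y) ^ N • zb := by
  set φ := Ideal.Quotient.mk (Ideal.span {x})
  choose z hz' using fun k => Ideal.Quotient.mk_surjective (zb k)
  have hzb : zb = φ ∘ z := funext fun k => (hz' k).symm
  subst hzb
  rw [Seq.modShift, ← map_mulVec_comp] at hz
  obtain ⟨w, hw⟩ := exists_eq_smul_of_mk_eq_zero hz
  have hw0 : A i *ᵥ w = 0 := smul_right_cancel_fun hx (by
    rw [← mulVec_smul, ← hw, mulVec_mulVec, hA, zero_mulVec, smul_zero])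
  obtain ⟨N, u, hu⟩ := htor w hw0
  have h2 : A (i + 1) *ᵥ (y ^ N • z - x • u) = 0 := by
    rw [mulVec_sub, mulVec_smul, mulVec_smul, hw, hu, smul_comm, sub_self]
  obtain ⟨M, v, hv⟩ := htor' _ h2
  refine ⟨M + N, φ ∘ v, ?_⟩
  rw [Seq.modShift, ← map_mulVec_comp]
  funext k
  have hk : (A (i + 2) *ᵥ v) k = y ^ (M + N) * z k - y ^ M * (x * u k) := by
    rw [hv]
    simp [mul_sub, pow_add, mul_assoc]
  show φ ((A (i + 2) *ᵥ v) k) = φ y ^ (M + N) * φ (z k)
  rw [hk, map_sub, map_mul, map_mul, map_mul, map_pow, map_pow,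
    show φ x = 0 from Ideal.Quotient.eq_zero_iff_mem.mpr (Ideal.mem_span_singleton_self x),
    zero_mul, mul_zero, sub_zero]

theorem isWeaklyRegular_quotient {x : R} {xs : List R}
    (h : RingTheory.Sequence.IsWeaklyRegular R (x :: xs)) :
    IsSMulRegular R x ∧ RingTheory.Sequence.IsWeaklyRegular (R ⧸ Ideal.span {x})
      (xs.map (Ideal.Quotient.mk (Ideal.span {x}))) := by
  rw [RingTheory.Sequence.isWeaklyRegular_cons_iff] at h
  refine ⟨h.1, (RingTheory.Sequence.isWeaklyRegular_map_algebraMap_iff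
    (R ⧸ Ideal.span {x}) (R ⧸ Ideal.span {x}) xs).mpr ?_⟩
  let e : QuotSMulTop x R ≃ₗ[R] R ⧸ Ideal.span {x} :=
    Submodule.quotEquivOfEq _ _ (by
      rw [← Submodule.ideal_span_singleton_smul x ⊤, smul_eq_mul, Ideal.mul_top])
  exact (LinearEquiv.isWeaklyRegular_congr e xs).mp h.2

/-- **Acyclicity step**: split exact from degree `d` on and torsion homology with a weakly
regular sequence of length `d` implies exact. -/
theorem exactLT_of_torsion (d : ℕ) {R : Type u} [CommRing R] {n : ℕ → ℕ} (A : Seq R n) (e : ℕ)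
    (hA : ∀ i, A i * A (i + 1) = 0) (he : A e = 0) (rs : List R) (hlen : rs.length = d)
    (hreg : RingTheory.Sequence.IsWeaklyRegular R rs)
    (htor : ∀ i < e, ∀ z, A i *ᵥ z = 0 → ∀ x ∈ rs, ∃ N, ∃ w, A (i + 1) *ᵥ w = x ^ N • z)
    (hsplit : ∀ i, d ≤ i → i < e → SplitAt A i) : ExactLT A e := by
  induction d generalizing R n A e with
  | zero => exact fun i hi z hz => (hsplit i (Nat.zero_le i) hi).exact z hz
  | succ d ih =>
    obtain ⟨x, ys, rfl⟩ := List.exists_cons_of_length_eq_add_one hlen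
    obtain ⟨hx, hys⟩ := isWeaklyRegular_quotient hreg
    intro i hi z hz
    have key : i + 1 < e → ∀ v : Fin (n (i + 1 + 1)) → R ⧸ Ideal.span {x},
        Seq.modShift A x i *ᵥ v = 0 → ∃ u, Seq.modShift A x (i + 1) *ᵥ u = v := by
      intro hie
      have hlen' : (ys.map (Ideal.Quotient.mk (Ideal.span {x}))).length = d := by simpa using hlen
      refine ih (Seq.modShift A x) (e - 1) (fun j => ?_) ?_ _ hlen' hys
        (fun j hj v hv y hy => ?_) (fun j hdj hje => ?_) i (by omega)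
      · exact Seq.map_comp A _ hA (j + 1)
      · have he' : e - 1 + 1 = e := by omega
        show (A (e - 1 + 1)).map _ = 0
        rw [he', he]
        ext; simp
      · obtain ⟨y', hy', rfl⟩ := List.mem_map.mp hy
        exact exists_modShift_preimage hx hA
          (fun z hz => htor j (by omega) z hz y' (List.mem_cons_of_mem _ hy'))
          (fun z hz => htor (j + 1) (by omega) z hz y' (List.mem_cons_of_mem _ hy')) hv
      · exact (hsplit (j + 1) (by omega) (by omega)).map _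
    have step : ∀ z, A i *ᵥ z = 0 → (∃ w, A (i + 1) *ᵥ w = x • z) → ∃ w, A (i + 1) *ᵥ w = z := by
      rintro z hz ⟨w, hw⟩
      rcases Nat.lt_or_ge (i + 1) e with hie | hie
      · obtain ⟨vb, hvb⟩ := key hie ((Ideal.Quotient.mk (Ideal.span {x})) ∘ w)
          (by rw [Seq.modShift, ← map_mulVec_comp, hw]; exact mk_comp_eq_zero_of_smul z)
        choose v hv using fun k => Ideal.Quotient.mk_surjective (vb k)
        have hvb' : vb = (Ideal.Quotient.mk (Ideal.span {x})) ∘ v := funext fun k => (hv k).symm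
        rw [hvb', Seq.modShift, ← map_mulVec_comp] at hvb
        obtain ⟨u, hu⟩ := exists_eq_smul_of_mk_eq_zero (x := x) (v := w - A (i + 1 + 1) *ᵥ v) (by
          funext k
          simpa [Function.comp_apply] using sub_eq_zero.mpr (congrFun hvb k).symm)
        refine ⟨u, smul_right_cancel_fun hx ?_⟩
        rw [← hw, ← mulVec_smul, ← hu, mulVec_sub, mulVec_mulVec, hA, zero_mulVec, sub_zero]
      · have hie' : i + 1 = e := by omega
        subst hie'
        rw [he, zero_mulVec] at hw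
        exact ⟨0, by rw [mulVec_zero]; exact smul_right_cancel_fun hx (by rw [smul_zero, hw])⟩
    obtain ⟨N, w, hw⟩ := htor i hi z hz x List.mem_cons_self
    induction N generalizing z w with
    | zero => exact ⟨w, by simpa using hw⟩
    | succ N ihN =>
      have h1 : A i *ᵥ (x ^ N • z) = 0 := by rw [mulVec_smul, hz, smul_zero]
      obtain ⟨w', hw'⟩ := step _ h1 ⟨w, by rw [hw, smul_smul, ← pow_succ']⟩
      exact ihN z hz w' hw'

section localization

variable [IsNoetherianRing R]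

/-- The colon ideal of the boundaries at a cycle. -/
def colonIdeal (A : Seq R n) (i : ℕ) (z : Fin (n (i + 1)) → R) : Ideal R :=
  Submodule.comap (LinearMap.toSpanSingleton R _ z) (LinearMap.range (A (i + 1)).mulVecLin)

omit [IsNoetherianRing R] in
theorem mem_colonIdeal {A : Seq R n} {i : ℕ} {z : Fin (n (i + 1)) → R} {c : R} :
    c ∈ colonIdeal A i z ↔ ∃ w, A (i + 1) *ᵥ w = c • z := by
  simp [colonIdeal, LinearMap.toSpanSingleton_apply]

omit [IsNoetherianRing R] in
theorem not_colonIdeal_le {A : Seq R n} {i : ℕ} (Q : Ideal R) [Q.IsPrime]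
    (h : ∀ z, Seq.map A (algebraMap R (Localization.AtPrime Q)) i *ᵥ z = 0 →
      ∃ w, Seq.map A (algebraMap R (Localization.AtPrime Q)) (i + 1) *ᵥ w = z)
    {z : Fin (n (i + 1)) → R} (hz : A i *ᵥ z = 0) : ¬ colonIdeal A i z ≤ Q := by
  intro hle
  set L := Localization.AtPrime Q
  set φ := algebraMap R L
  obtain ⟨w, hw⟩ := h (φ ∘ z) (by
    rw [Seq.map_apply, ← map_mulVec_comp, hz]
    exact funext fun _ => map_zero φ)
  obtain ⟨s, hs⟩ := IsLocalization.exist_integer_multiples_of_finite Q.primeCompl w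
  choose w' hw' using hs
  have h1 : ∀ k, φ ((A (i + 1) *ᵥ w') k) = φ ((s : R) * z k) := fun k => by
    have hw'' : φ ∘ w' = (s : R) • w := funext fun j => hw' j
    calc φ ((A (i + 1) *ᵥ w') k) = (Seq.map A φ (i + 1) *ᵥ (φ ∘ w')) k :=
          RingHom.map_mulVec φ _ _ _
      _ = φ ((s : R) * z k) := by
          rw [hw'', mulVec_smul, hw, Pi.smul_apply, Function.comp_apply, Algebra.smul_def, map_mul]
  choose c hc using fun k => (IsLocalization.eq_iff_exists Q.primeCompl L).mp (h1 k)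
  have hmem : ((∏ k, (c k : R)) * (s : R)) ∈ colonIdeal A i z := by
    rw [mem_colonIdeal]
    refine ⟨(∏ k, (c k : R)) • w', ?_⟩
    rw [mulVec_smul]
    funext k
    rw [Pi.smul_apply, Pi.smul_apply, smul_eq_mul, smul_eq_mul,
      ← Finset.prod_erase_mul _ _ (Finset.mem_univ k), mul_assoc, hc k]
    ring
  rcases (‹Q.IsPrime›).mem_or_mem (hle hmem) with h2 | h2
  · obtain ⟨k, -, hk⟩ := (‹Q.IsPrime›.prod_mem_iff).mp h2
    exact (c k).2 hk
  · exact s.2 h2

omit [IsNoetherianRing R] in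
/-- Exactness can be tested at the maximal ideals. -/
theorem exactLT_of_localization {A : Seq R n} {e : ℕ}
    (h : ∀ (Q : Ideal R) [Q.IsMaximal],
      ExactLT (Seq.map A (algebraMap R (Localization.AtPrime Q))) e) : ExactLT A e := by
  intro i hi z hz
  by_contra hne
  have htop : colonIdeal A i z ≠ ⊤ := fun ht => by
    obtain ⟨w, hw⟩ := mem_colonIdeal.mp (show (1 : R) ∈ colonIdeal A i z from ht ▸ Submodule.mem_top)
    exact hne ⟨w, hw.trans (one_smul R z)⟩
  obtain ⟨Q, hQ, hle⟩ := Ideal.exists_le_maximal _ htop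
  haveI := hQ
  exact not_colonIdeal_le Q (h Q i hi) hz hle

omit [IsNoetherianRing R] in
/-- Exactness away from the closed point gives torsion homology. -/
theorem torsion_of_localization [IsLocalRing R] {A : Seq R n} {e : ℕ}
    (h : ∀ (Q : Ideal R) [Q.IsPrime], Q ≠ IsLocalRing.maximalIdeal R →
      ExactLT (Seq.map A (algebraMap R (Localization.AtPrime Q))) e) :
    ∀ i < e, ∀ z, A i *ᵥ z = 0 → ∀ x ∈ IsLocalRing.maximalIdeal R,
      ∃ N, ∃ w, A (i + 1) *ᵥ w = x ^ N • z := by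
  intro i hi z hz x hx
  suffices hr : x ∈ (colonIdeal A i z).radical by
    obtain ⟨N, hN⟩ := hr
    exact ⟨N, mem_colonIdeal.mp hN⟩
  rw [Ideal.radical_eq_sInf, Submodule.mem_sInf]
  rintro Q ⟨hle, hQ⟩
  haveI := hQ
  by_cases hQm : Q = IsLocalRing.maximalIdeal R
  · exact hQm ▸ hx
  · exact absurd hle (not_colonIdeal_le Q (h Q hQm i hi) hz)

end localization

end L02.CAlg.BE
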