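import Groth.Agent.L02.CAlg.BE.Split
import Mathlib.RingTheory.Regular.Flat
import Mathlib.RingTheory.Ideal.Height
import Mathlib.RingTheory.KrullDimension.Field
import Mathlib.RingTheory.Ideal.KrullsHeightTheorem

/-!
The Buchsbaum-Eisenbud exactness criterion.
-/

set_option autoImplicit false

universe u

open Matrix CAlgX RingTheory.Sequence

namespace L02.CAlg.BE

section rk

/-- Expected ranks, by recursion from the top. -/
def aux (n : ℕ → ℕ) : ℕ → ℕ → ℕ
  | 0, _ => 0
  | k + 1, i => n (i + 1) - aux n k (i + 1)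

/-- Expected rank of the `i`-th matrix of a length `e` complex. -/
def rk (n : ℕ → ℕ) (e i : ℕ) : ℕ := aux n (e - i) i

theorem rk_self (n : ℕ → ℕ) (e : ℕ) : rk n e e = 0 := by simp [rk, aux]

theorem rk_eq (n : ℕ → ℕ) {e i : ℕ} (h : i < e) : rk n e i = n (i + 1) - rk n e (i + 1) := by
  rw [rk, rk, show e - i = e - (i + 1) + 1 by omega]
  rfl

theorem aux_shift (n : ℕ → ℕ) (k : ℕ) : ∀ i, aux (fun j => n (j + 1)) k i = aux n k (i + 1) := by
  induction k with
  | zero => exact fun i => rfl
  | succ k ih => exact fun i => by show n _ - _ = n _ - _; rw [ih]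

theorem rk_shift (n : ℕ → ℕ) (e i : ℕ) : rk (fun j => n (j + 1)) (e - 1) i = rk n e (i + 1) := by
  rw [rk, rk, aux_shift, show e - 1 - i = e - (i + 1) by omega]

end rk

/-- A weakly regular sequence of length `j` inside `I`, or `I` is the unit ideal. -/
def DepthCond {R : Type u} [CommRing R] (I : Ideal R) (j : ℕ) : Prop :=
  I = ⊤ ∨ ∃ rs : List R, rs.length = j ∧ (∀ r ∈ rs, r ∈ I) ∧ IsWeaklyRegular R rs

/-- The numerical hypotheses of the criterion. -/
def Cond {R : Type u} [CommRing R] {n : ℕ → ℕ} (A : Seq R n) (r : ℕ → ℕ) (e : ℕ) : Prop :=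
  ∀ i < e, minorIdeal (A i) (r i + 1) = ⊥ ∧ DepthCond (minorIdeal (A i) (r i)) (i + 1)

theorem Cond.map {R S : Type u} [CommRing R] [CommRing S] [Algebra R S] [Module.Flat R S]
    {n : ℕ → ℕ} {A : Seq R n} {r : ℕ → ℕ} {e : ℕ} (h : Cond A r e) :
    Cond (Seq.map A (algebraMap R S)) r e := by
  intro i hi
  obtain ⟨h1, h2⟩ := h i hi
  refine ⟨?_, ?_⟩
  · rw [Seq.map_apply, Groth.L03.HilbertBurch.minorIdeal_map, h1, Ideal.map_bot]
  · rcases h2 with h2 | ⟨rs, hl, hmem, hreg⟩
    · left
      rw [Seq.map_apply, Groth.L03.HilbertBurch.minorIdeal_map, h2, Ideal.map_top]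
    · right
      refine ⟨rs.map (algebraMap R S), by simpa using hl, fun s hs => ?_, hreg.of_flat⟩
      obtain ⟨t, ht, rfl⟩ := List.mem_map.mp hs
      rw [Seq.map_apply, Groth.L03.HilbertBurch.minorIdeal_map]
      exact Ideal.mem_map_of_mem _ (hmem t ht)

theorem exactLT_of_cond_local (d : ℕ) : ∀ (R : Type u) [CommRing R] [IsLocalRing R]
    [IsNoetherianRing R], ringKrullDim R < d → ∀ {n : ℕ → ℕ} (A : Seq R n) (r : ℕ → ℕ) (e : ℕ),
    (∀ i, A i * A (i + 1) = 0) → A e = 0 → r e = 0 → (∀ i < e, r i + r (i + 1) = n (i + 1)) →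
    Cond A r e → ExactLT A e := by
  induction d with
  | zero =>
    intro R _ _ _ hd
    exact absurd (lt_of_le_of_lt ringKrullDim_nonneg_of_nontrivial hd) (lt_irrefl _)
  | succ d ih =>
    intro R _ _ _ hd n A r e hA he hre hr hC
    classical
    -- exactness away from the closed point
    have htor : ∀ i < e, ∀ z, A i *ᵥ z = 0 → ∀ x ∈ IsLocalRing.maximalIdeal R,
        ∃ N, ∃ w, A (i + 1) *ᵥ w = x ^ N • z := by
      refine torsion_of_localization fun Q _ hQ => ?_
      refine ih (Localization.AtPrime Q) ?_ _ r e (Seq.map_comp A _ hA) ?_ hre hr hC.map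
      · have hlt : Q < IsLocalRing.maximalIdeal R :=
          lt_of_le_of_ne (IsLocalRing.le_maximalIdeal (Ideal.IsPrime.ne_top ‹_›)) hQ
        have hh := Ideal.height_strict_mono_of_isPrime hlt
        rw [IsLocalization.AtPrime.ringKrullDim_eq_height Q (Localization.AtPrime Q)]
        rw [← IsLocalRing.maximalIdeal_height_eq_ringKrullDim] at hd
        have hd' : (IsLocalRing.maximalIdeal R).height < ((d + 1 : ℕ) : ℕ∞) := by exact_mod_cast hd
        obtain ⟨a, ha⟩ : ∃ a : ℕ, (IsLocalRing.maximalIdeal R).height = a :=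
          ⟨_, (ENat.natCast_toNat (ne_top_of_lt hd')).symm⟩
        rw [ha] at hh hd'
        obtain ⟨c, hc⟩ : ∃ c : ℕ, Q.height = c := ⟨_, (ENat.natCast_toNat (ne_top_of_lt hh)).symm⟩
        rw [hc] at hh ⊢
        have h1 : c < a := by exact_mod_cast hh
        have h2 : a < d + 1 := by exact_mod_cast hd'
        exact_mod_cast (show c < d by omega)
      · rw [Seq.map_apply, he]
        ext; simp
    -- degree from which the complex is split
    have hP : ∃ k, ∀ j, k ≤ j → j < e → minorIdeal (A j) (r j) = ⊤ :=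
      ⟨e, fun j h1 h2 => absurd h2 (not_lt.mpr h1)⟩
    let k := Nat.find hP
    have hpiv : ∀ j, k ≤ j → j ≤ e → Piv (A j) (r j) := fun j hkj hje => by
      rcases hje.lt_or_eq with hlt | rfl
      · exact piv_of_minors (Nat.find_spec hP j hkj hlt) (hC j hlt).1
      · rw [he, hre]
        exact piv_zero _ _
    have hsplit : ∀ i, k ≤ i → i < e → SplitAt A i := fun i hki hie =>
      split_of_piv (hA i) (hpiv i hki hie.le) (hpiv (i + 1) (by omega) hie) (hr i hie)
    obtain ⟨rs, hlen, hmem, hreg⟩ : ∃ rs : List R, rs.length = k ∧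
        (∀ x ∈ rs, x ∈ IsLocalRing.maximalIdeal R) ∧ IsWeaklyRegular R rs := by
      rcases Nat.eq_zero_or_pos k with hk | hk
      · exact ⟨[], hk.symm, by simp, IsWeaklyRegular.nil _ _⟩
      · have hnot := Nat.find_min hP (show k - 1 < k by omega)
        push_neg at hnot
        obtain ⟨j, hj1, hj2, hj3⟩ := hnot
        have hjk : j = k - 1 := by
          by_contra hne
          exact hj3 (Nat.find_spec hP j (show k ≤ j by omega) hj2)
        rcases (hC j hj2).2 with htop | ⟨rs, hl, hmem, hreg⟩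
        · exact absurd htop hj3
        · exact ⟨rs, by omega, fun x hx => IsLocalRing.le_maximalIdeal hj3 (hmem x hx), hreg⟩
    exact exactLT_of_torsion k A e hA he rs hlen hreg
      (fun i hi z hz x hx => htor i hi z hz x (hmem x hx)) hsplit

theorem exactLT_of_cond {R : Type u} [CommRing R] [IsNoetherianRing R] {n : ℕ → ℕ} (A : Seq R n)
    (r : ℕ → ℕ) (e : ℕ) (hA : ∀ i, A i * A (i + 1) = 0) (he : A e = 0) (hre : r e = 0)
    (hr : ∀ i < e, r i + r (i + 1) = n (i + 1)) (hC : Cond A r e) : ExactLT A e := by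
  refine exactLT_of_localization fun Q _ => ?_
  obtain ⟨d, hd⟩ : ∃ d : ℕ, ringKrullDim (Localization.AtPrime Q) < d := by
    have h1 := IsLocalRing.maximalIdeal_height_eq_ringKrullDim (R := Localization.AtPrime Q)
    have h2 : (IsLocalRing.maximalIdeal (Localization.AtPrime Q)).height ≠ ⊤ :=
      Ideal.height_ne_top_of_isPrime
    obtain ⟨a, ha⟩ : ∃ a : ℕ, (IsLocalRing.maximalIdeal (Localization.AtPrime Q)).height = a :=
      ⟨_, (ENat.natCast_toNat h2).symm⟩
    refine ⟨a + 1, ?_⟩
    rw [← h1, ha]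
    exact_mod_cast Nat.lt_succ_self a
  refine exactLT_of_cond_local d _ hd _ r e (Seq.map_comp A _ hA) ?_ hre hr hC.map
  rw [Seq.map_apply, he]
  ext; simp

theorem exactLT_map {R : Type u} [CommRing R] {n : ℕ → ℕ} {A : Seq R n} {e : ℕ}
    (h : ExactLT A e) (M : Submonoid R) :
    ExactLT (Seq.map A (algebraMap R (Localization M))) e := by
  intro i hi zb hz
  set φ := algebraMap R (Localization M)
  obtain ⟨s, hs⟩ := IsLocalization.exist_integer_multiples_of_finite M zb
  choose z hz' using hs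
  have hzb : φ ∘ z = (s : R) • zb := funext fun j => hz' j
  have h1 : ∀ k, φ ((A i *ᵥ z) k) = φ 0 := fun k => by
    rw [RingHom.map_mulVec, ← Seq.map_apply, hzb, mulVec_smul, hz, smul_zero, map_zero]
    rfl
  choose c hc using fun k => (IsLocalization.eq_iff_exists M (Localization M)).mp (h1 k)
  obtain ⟨w, hw⟩ := h i hi ((∏ k, (c k : R)) • z) (by
    rw [mulVec_smul]
    funext k
    rw [Pi.smul_apply, smul_eq_mul, ← Finset.prod_erase_mul _ _ (Finset.mem_univ k), mul_assoc,
      hc k, mul_zero, mul_zero]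
    rfl)
  obtain ⟨t, ht⟩ : IsUnit (φ ((∏ k, (c k : R)) * s)) :=
    IsLocalization.map_units (Localization M) (⟨_, M.mul_mem (prod_mem fun k _ => (c k).2) s.2⟩ : M)
  refine ⟨(↑t⁻¹ : Localization M) • (φ ∘ w), ?_⟩
  have h2 : Seq.map A φ (i + 1) *ᵥ (φ ∘ w) = (t : Localization M) • zb := by
    rw [Seq.map_apply, ← map_mulVec_comp, hw, ht, map_mul]
    funext k
    show φ ((∏ k, (c k : R)) * z k) = φ (∏ k, (c k : R)) * φ s * zb k
    rw [map_mul, mul_assoc, show φ (z k) = φ s * zb k from (hz' k).trans (Algebra.smul_def _ _)]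
  rw [mulVec_smul, h2, smul_smul, Units.inv_mul, one_smul]

/-- Pivots of an exact complex over a local ring of depth zero. -/
theorem piv_of_exactLT {R : Type u} [CommRing R] [IsLocalRing R] {x : R} (hx0 : x ≠ 0)
    (hxm : ∀ y ∈ IsLocalRing.maximalIdeal R, y * x = 0) {n : ℕ → ℕ} (A : Seq R n) (e : ℕ)
    (hA : ∀ i, A i * A (i + 1) = 0) (he : A e = 0) (hex : ExactLT A e) :
    ∀ k, k ≤ e → Piv (A (e - k)) (rk n e (e - k)) ∧
      ∀ i, e - k ≤ i → i < e → rk n e (i + 1) ≤ n (i + 1) := by
  intro k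
  induction k with
  | zero =>
    intro _
    rw [Nat.sub_zero, he, rk_self]
    exact ⟨piv_zero _ _, fun i h1 h2 => absurd h2 (not_lt.mpr h1)⟩
  | succ k ih =>
    intro hk
    obtain ⟨h1, h2⟩ := ih (by omega)
    obtain ⟨i, hi, hi'⟩ : ∃ i, e - (k + 1) = i ∧ e - k = i + 1 := ⟨_, rfl, by omega⟩
    rw [hi'] at h1 h2
    rw [hi]
    obtain ⟨hle, hpiv⟩ := piv_of_exact hx0 hxm (hA i) h1 (hex i (by omega))
    refine ⟨by rw [rk_eq n (show i < e by omega)]; exact hpiv, fun j hj1 hj2 => ?_⟩
    rcases hj1.lt_or_eq with hlt | rfl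
    · exact h2 j hlt hj2
    · exact hle

theorem exists_killed_of_associatedPrime {R : Type u} [CommRing R] [IsNoetherianRing R]
    {q : Ideal R} (hq : q ∈ associatedPrimes R R) :
    ∃ (_ : q.IsPrime), ∃ x : Localization.AtPrime q, x ≠ 0 ∧
      ∀ y ∈ IsLocalRing.maximalIdeal (Localization.AtPrime q), y * x = 0 := by
  obtain ⟨hp, a, ha⟩ := isAssociatedPrime_iff.mp hq
  haveI := hp
  refine ⟨hp, algebraMap R _ a, fun h0 => ?_, fun y hy => ?_⟩
  · obtain ⟨s, hs⟩ := (IsLocalization.map_eq_zero_iff q.primeCompl _ a).mp h0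
    refine s.2 ?_
    have : (s : R) ∈ (⊥ : Submodule R R).colon {a} := by simp [Submodule.mem_colon_singleton, hs]
    rwa [← ha] at this
  · rw [← IsLocalization.AtPrime.map_eq_maximalIdeal q (Localization.AtPrime q)] at hy
    induction hy using Submodule.span_induction with
    | mem v hv =>
      obtain ⟨c, hc, rfl⟩ := hv
      have hc' : c ∈ (⊥ : Submodule R R).colon {a} := ha ▸ hc
      rw [Submodule.mem_colon_singleton, Submodule.mem_bot, smul_eq_mul] at hc'
      rw [← map_mul, hc', map_zero]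
    | zero => exact zero_mul _
    | add v w _ _ hv hw => rw [add_mul, hv, hw, add_zero]
    | smul c v _ hv => rw [smul_eq_mul, mul_assoc, hv, mul_zero]

/-- Necessity: ranks. -/
theorem ranks_of_exact {R : Type u} [CommRing R] [IsNoetherianRing R] [Nontrivial R] {n : ℕ → ℕ}
    (A : Seq R n) (e : ℕ) (hA : ∀ i, A i * A (i + 1) = 0) (he : A e = 0) (hex : ExactLT A e) :
    ∀ i < e, rk n e i + rk n e (i + 1) = n (i + 1) ∧ minorIdeal (A i) (rk n e i + 1) = ⊥ ∧
      ∃ x ∈ minorIdeal (A i) (rk n e i), IsSMulRegular R x := by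
  intro i hi
  have hq : ∀ q ∈ associatedPrimes R R, ∃ (_ : q.IsPrime),
      Piv ((A i).map (algebraMap R (Localization.AtPrime q))) (rk n e i) ∧
        rk n e (i + 1) ≤ n (i + 1) := by
    intro q hq
    obtain ⟨hp, x, hx0, hxm⟩ := exists_killed_of_associatedPrime hq
    haveI := hp
    obtain ⟨h1, h2⟩ := piv_of_exactLT hx0 hxm (Seq.map A (algebraMap R (Localization.AtPrime q))) e
      (Seq.map_comp A _ hA) (by rw [Seq.map_apply, he]; ext; simp) (exactLT_map hex _) (e - i)
      (Nat.sub_le e i)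
    rw [show e - (e - i) = i by omega] at h1 h2
    exact ⟨hp, h1, h2 i le_rfl hi⟩
  refine ⟨?_, ?_, ?_⟩
  · obtain ⟨q, hq'⟩ := associatedPrimes.nonempty R R
    obtain ⟨_, -, hle⟩ := hq q hq'
    have := rk_eq n hi
    omega
  · rw [eq_bot_iff]
    intro v hv
    rw [Submodule.mem_bot]
    by_contra hv0
    obtain ⟨q, hq', hle⟩ := exists_le_isAssociatedPrime_of_isNoetherianRing (R := R) v hv0
    obtain ⟨hp, hpiv, -⟩ := hq q hq'
    have hv' := Ideal.mem_map_of_mem (algebraMap R (Localization.AtPrime q)) hv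
    rw [← Groth.L03.HilbertBurch.minorIdeal_map, hpiv.minorIdeal_eq_bot, Ideal.mem_bot] at hv'
    obtain ⟨s, hs⟩ := (IsLocalization.map_eq_zero_iff q.primeCompl _ v).mp hv'
    exact s.2 (hle (by simp [Submodule.mem_colon_singleton, hs]))
  · by_contra hcon
    push_neg at hcon
    have hsub : (minorIdeal (A i) (rk n e i) : Set R) ⊆
        ⋃ q ∈ associatedPrimes R R, (q : Set R) := by
      rw [biUnion_associatedPrimes_eq_compl_regular]
      exact fun x hx => hcon x hx
    obtain ⟨q, hq', hle⟩ := (Ideal.subset_union_prime_finite (associatedPrimes.finite R R) ⊥ ⊥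
      (fun q hq _ _ => hq.isPrime)).mp hsub
    obtain ⟨hp, hpiv, -⟩ := hq q hq'
    have h1 := hpiv.minorIdeal_eq_top
    rw [Groth.L03.HilbertBurch.minorIdeal_map] at h1
    have h2 := (Ideal.map_mono (f := algebraMap R (Localization.AtPrime q)) hle)
    rw [h1, IsLocalization.AtPrime.map_eq_maximalIdeal q (Localization.AtPrime q)] at h2
    exact (IsLocalRing.maximalIdeal.isMaximal _).ne_top (top_le_iff.mp h2)

theorem exactLT_modShift {R : Type u} [CommRing R] {n : ℕ → ℕ} {A : Seq R n} {e : ℕ} {x : R}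
    (hx : IsSMulRegular R x) (hA : ∀ i, A i * A (i + 1) = 0) (hex : ExactLT A e) :
    ExactLT (Seq.modShift A x) (e - 1) := by
  intro i hi zb hz
  obtain ⟨N, w, hw⟩ := exists_modShift_preimage (y := 1) hx hA
    (fun z hz => ⟨0, by simpa using hex i (by omega) z hz⟩)
    (fun z hz => ⟨0, by simpa using hex (i + 1) (by omega) z hz⟩) hz
  exact ⟨w, by simpa using hw⟩

/-- Necessity: depth. -/
theorem cond_of_exact (e : ℕ) : ∀ (R : Type u) [CommRing R] [IsLocalRing R] [IsNoetherianRing R]
    {n : ℕ → ℕ} (A : Seq R n), (∀ i, A i * A (i + 1) = 0) → A e = 0 → ExactLT A e →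
    ∀ i < e, DepthCond (minorIdeal (A i) (rk n e i)) (i + 1) := by
  induction e with
  | zero => exact fun R _ _ _ n A _ _ _ i hi => absurd hi (Nat.not_lt_zero i)
  | succ e ih =>
    intro R _ _ _ n A hA he hex i hi
    by_cases htop : minorIdeal (A i) (rk n (e + 1) i) = ⊤
    · exact Or.inl htop
    obtain ⟨-, -, x, hxI, hx⟩ := ranks_of_exact A (e + 1) hA he hex i hi
    have hxm : x ∈ IsLocalRing.maximalIdeal R := IsLocalRing.le_maximalIdeal htop hxI
    cases i with
    | zero =>
      refine Or.inr ⟨[x], rfl, fun r hr => ?_, ?_⟩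
      · rw [List.mem_singleton.mp hr]
        exact hxI
      · exact (isWeaklyRegular_singleton_iff R x).mpr hx
    | succ i =>
      haveI : Nontrivial (R ⧸ Ideal.span {x}) := Ideal.Quotient.nontrivial_iff.mpr fun h =>
        (IsLocalRing.maximalIdeal.isMaximal R).ne_top
          (top_le_iff.mp (h ▸ (Ideal.span_singleton_le_iff_mem _).mpr hxm))
      haveI : IsLocalRing (R ⧸ Ideal.span {x}) :=
        IsLocalRing.of_surjective' (Ideal.Quotient.mk _) Ideal.Quotient.mk_surjective
      have hex' := exactLT_modShift hx hA hex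
      have hrs := ih (R ⧸ Ideal.span {x}) (n := fun j => n (j + 1)) (Seq.modShift A x)
        (fun j => Seq.map_comp A _ hA (j + 1))
        (by show (A (e + 1)).map _ = 0; rw [he]; ext; simp) hex' i (by omega)
      rw [show rk (fun j => n (j + 1)) e i = rk n (e + 1) (i + 1) from rk_shift n (e + 1) i,
        show Seq.modShift A x i = (A (i + 1)).map (Ideal.Quotient.mk (Ideal.span {x})) from rfl,
        Groth.L03.HilbertBurch.minorIdeal_map] at hrs
      rcases hrs with h | ⟨rs, hl, hmem, hreg⟩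
      · refine absurd ?_ htop
        have h' := congrArg (Ideal.comap (Ideal.Quotient.mk (Ideal.span {x}))) h
        rw [Ideal.comap_top, Ideal.comap_map_of_surjective _ Ideal.Quotient.mk_surjective,
          ← RingHom.ker_eq_comap_bot, Ideal.mk_ker,
          sup_eq_left.mpr ((Ideal.span_singleton_le_iff_mem _).mpr hxI)] at h'
        exact h'
      · choose y hy hy' using fun s : {s // s ∈ rs} =>
          (Ideal.mem_map_iff_of_surjective _ Ideal.Quotient.mk_surjective).mp (hmem s.1 s.2)
        refine Or.inr ⟨x :: rs.attach.map y, by simp [hl], fun r hr => ?_, ?_⟩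
        · rcases List.mem_cons.mp hr with rfl | hr
          · exact hxI
          · obtain ⟨s, -, rfl⟩ := List.mem_map.mp hr
            exact hy s
        · rw [isWeaklyRegular_cons_iff]
          refine ⟨hx, ?_⟩
          let f : QuotSMulTop x R ≃ₗ[R] R ⧸ Ideal.span {x} :=
            Submodule.quotEquivOfEq _ _ (by
              rw [← Submodule.ideal_span_singleton_smul x ⊤, smul_eq_mul, Ideal.mul_top])
          rw [LinearEquiv.isWeaklyRegular_congr f,
            ← isWeaklyRegular_map_algebraMap_iff (R ⧸ Ideal.span {x}) (R ⧸ Ideal.span {x}),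
            List.map_map]
          have : (algebraMap R (R ⧸ Ideal.span {x})) ∘ y = Subtype.val :=
            funext fun s => hy' s
          rw [this, List.attach_map_subtype_val]
          exact hreg

end L02.CAlg.BE
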