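import Groth.Agent.L02.CAlg.BE.Pivot
import Groth.Agent.L02.CAlg.BE.Core

/-!
Splitting of complexes of free modules over local rings from their pivots.
-/

set_option autoImplicit false

universe u

open Matrix CAlgX

namespace L02.CAlg.BE

section field

variable {k : Type u} [Field k] {a b c : ℕ}

theorem mul_ginv_mul_of_rank_le (M : Matrix (Fin a) (Fin b) k) {r : ℕ} (f : Fin r → Fin a)
    (g : Fin r → Fin b) (hdet : IsUnit (M.submatrix f g).det) (hr : M.rank ≤ r) :
    M * ginv M f g * M = M := by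
  classical
  set P := M * ginv M f g with hPdef
  have hsub : (P * M).submatrix f g = M.submatrix f g := by
    rw [hPdef, mul_ginv_mul, Matrix.submatrix_mul _ _ f id g Function.bijective_id,
      Matrix.submatrix_mul _ _ f id id Function.bijective_id]
    simp only [Matrix.submatrix_submatrix, Function.comp_id, Function.id_comp, Matrix.submatrix_id_id]
    rw [Matrix.mul_nonsing_inv _ hdet, Matrix.one_mul]
  have hPr : r ≤ P.rank :=
    calc r = (M.submatrix f g).rank := by
          rw [Matrix.rank_of_isUnit _ ((Matrix.isUnit_iff_isUnit_det _).mpr hdet), Fintype.card_fin]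
      _ = ((P * M).submatrix f g).rank := by rw [hsub]
      _ ≤ (P * M).rank := Matrix.rank_submatrix_le _ _ _
      _ ≤ P.rank := Matrix.rank_mul_le_left _ _
  have hle : LinearMap.range P.mulVecLin ≤ LinearMap.range M.mulVecLin := by
    rw [hPdef, Matrix.mulVecLin_mul]
    exact LinearMap.range_comp_le_range _ _
  have heq : LinearMap.range P.mulVecLin = LinearMap.range M.mulVecLin :=
    Submodule.eq_of_le_of_finrank_le hle (hr.trans hPr)
  have hPP : P * P = P := by
    rw [hPdef, Matrix.mul_assoc, ← Matrix.mul_assoc (ginv M f g), ginv_mul_ginv M f g hdet]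
  apply Matrix.mulVec_injective
  funext v
  obtain ⟨u, hu⟩ : M *ᵥ v ∈ LinearMap.range P.mulVecLin := heq ▸ ⟨v, rfl⟩
  rw [Matrix.mulVecLin_apply] at hu
  rw [← mulVec_mulVec, ← hu, mulVec_mulVec, hPP]

theorem rank_add_finrank_ker (C : Matrix (Fin a) (Fin b) k) :
    C.rank + Module.finrank k (LinearMap.ker C.mulVecLin) = b := by
  have := C.mulVecLin.finrank_range_add_finrank_ker
  rwa [Module.finrank_fin_fun] at this

theorem range_le_ker {C : Matrix (Fin a) (Fin b) k} {B : Matrix (Fin b) (Fin c) k} (h : C * B = 0) :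
    LinearMap.range B.mulVecLin ≤ LinearMap.ker C.mulVecLin := by
  rw [LinearMap.range_le_ker_iff, ← Matrix.mulVecLin_mul, h, Matrix.mulVecLin_zero]

theorem exists_of_rank_add (C : Matrix (Fin a) (Fin b) k) (B : Matrix (Fin b) (Fin c) k)
    (h : C * B = 0) (hr : C.rank + B.rank = b) (v : Fin b → k) (hv : C *ᵥ v = 0) :
    ∃ w, B *ᵥ w = v := by
  have := Submodule.eq_of_le_of_finrank_le (range_le_ker h)
    (by have := rank_add_finrank_ker C; rw [Matrix.rank] at hr this; rw [Matrix.rank] at hr; omega)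
  have hv' : v ∈ LinearMap.range B.mulVecLin := this ▸ (by simpa using hv)
  simpa using hv'

theorem rank_add_of_exists (C : Matrix (Fin a) (Fin b) k) (B : Matrix (Fin b) (Fin c) k)
    (h : C * B = 0) (hex : ∀ v, C *ᵥ v = 0 → ∃ w, B *ᵥ w = v) : C.rank + B.rank = b := by
  have h1 : LinearMap.range B.mulVecLin = LinearMap.ker C.mulVecLin :=
    le_antisymm (range_le_ker h) fun v hv => by simpa using hex v (by simpa using hv)
  have h2 := rank_add_finrank_ker C
  rw [← h1] at h2
  exact h2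

end field

variable {R : Type u} [CommRing R] {a b c : ℕ}

theorem submatrix_map {S : Type*} [CommRing S] (φ : R →+* S) {r : ℕ}
    (A : Matrix (Fin a) (Fin b) R) (f : Fin r → Fin a) (g : Fin r → Fin b) :
    ((A.map φ).submatrix f g).det = φ ((A.submatrix f g).det) := by
  rw [Matrix.submatrix_map, RingHom.map_det]
  rfl

theorem ginv_map {S : Type u} [CommRing S] (φ : R →+* S) {r : ℕ} (A : Matrix (Fin a) (Fin b) R)
    (f : Fin r → Fin a) (g : Fin r → Fin b) (hdet : IsUnit (A.submatrix f g).det) :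
    (ginv A f g).map φ = ginv (A.map φ) f g := by
  rw [ginv, ginv, Matrix.map_mul, Matrix.map_mul, ← Matrix.submatrix_map, ← Matrix.submatrix_map,
    Matrix.map_one φ (map_zero φ) (map_one φ), Matrix.map_one φ (map_zero φ) (map_one φ)]
  congr 2
  refine (Matrix.inv_eq_left_inv ?_).symm
  rw [Matrix.submatrix_map, ← Matrix.map_mul, Matrix.nonsing_inv_mul _ hdet,
    Matrix.map_one φ (map_zero φ) (map_one φ)]

theorem Piv.map {S : Type u} [CommRing S] (φ : R →+* S) {A : Matrix (Fin a) (Fin b) R} {r : ℕ}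
    (h : Piv A r) : Piv (A.map φ) r := by
  obtain ⟨f, g, hdet, hA⟩ := h
  refine ⟨f, g, by rw [submatrix_map]; exact hdet.map φ, ?_⟩
  rw [← ginv_map φ A f g hdet, ← Matrix.map_mul, ← Matrix.map_mul, hA]

variable [IsLocalRing R]

theorem eq_zero_of_idempotent {D : Matrix (Fin b) (Fin b) R} (h : D * D = D)
    (hm : D.map (IsLocalRing.residue R) = 0) : D = 0 := by
  classical
  have hu : IsUnit (1 - D).det := by
    refine isUnit_of_map_unit (IsLocalRing.residue R) _ ?_
    rw [RingHom.map_det, map_sub, map_one]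
    show IsUnit (1 - D.map (IsLocalRing.residue R)).det
    rw [hm, sub_zero, Matrix.det_one]
    exact isUnit_one
  have : D * (1 - D) = 0 := by rw [Matrix.mul_sub, Matrix.mul_one, h, sub_self]
  calc D = D * ((1 - D) * (1 - D)⁻¹) := by rw [Matrix.mul_nonsing_inv _ hu, Matrix.mul_one]
    _ = 0 := by rw [← Matrix.mul_assoc, this, Matrix.zero_mul]

/-- The splitting lemma. -/
theorem split_lemma {C : Matrix (Fin a) (Fin b) R} {B : Matrix (Fin b) (Fin c) R}
    (hCB : C * B = 0) {G : Matrix (Fin c) (Fin b) R} (hG : B * G * B = B)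
    {H : Matrix (Fin b) (Fin a) R} (hH : H * C * H = H)
    (hCH : (C * H * C).map (IsLocalRing.residue R) = C.map (IsLocalRing.residue R))
    (hex : ∀ v, C.map (IsLocalRing.residue R) *ᵥ v = 0 →
      ∃ w, B.map (IsLocalRing.residue R) *ᵥ w = v) :
    C * H * C = C ∧ (1 : Matrix (Fin b) (Fin b) R) = B * (G * (1 - H * C)) + H * C := by
  classical
  set ρ := IsLocalRing.residue R
  have hP : B * G * (B * G) = B * G := by rw [← Matrix.mul_assoc, hG]
  have hQ : H * C * (H * C) = H * C := by rw [← Matrix.mul_assoc, hH]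
  have hQP : H * C * (B * G) = 0 := by
    rw [Matrix.mul_assoc H, ← Matrix.mul_assoc C, hCB, Matrix.zero_mul, Matrix.mul_zero]
  set D := (1 - B * G) * (1 - H * C) with hD
  have hDD : D * D = D := by
    have h1 : (1 - H * C) * (1 - B * G) = 1 - H * C - B * G := by
      simp only [Matrix.mul_sub, Matrix.sub_mul, Matrix.mul_one, Matrix.one_mul, hQP]
      abel
    have h2 : (1 - H * C - B * G) * (1 - H * C) = (1 - H * C) - B * G * (1 - H * C) := by
      rw [Matrix.sub_mul (1 - H * C) (B * G)]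
      congr 1
      rw [Matrix.mul_sub, Matrix.mul_one, Matrix.sub_mul, Matrix.one_mul, hQ, sub_self, sub_zero]
    calc D * D = (1 - B * G) * ((1 - H * C) * (1 - B * G) * (1 - H * C)) := by
          simp only [hD, Matrix.mul_assoc]
      _ = D := by
          rw [h1, h2, Matrix.mul_sub, ← Matrix.mul_assoc, Matrix.sub_mul 1 (B * G) (B * G), hP,
            Matrix.one_mul, sub_self, Matrix.zero_mul, sub_zero]
  have hD0 : D = 0 := by
    refine eq_zero_of_idempotent hDD ?_
    apply Matrix.mulVec_injective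
    funext v
    show D.map ρ *ᵥ v = (0 : Matrix (Fin b) (Fin b) _) *ᵥ v
    obtain ⟨w, hw⟩ := hex ((1 - H * C).map ρ *ᵥ v) (by
      rw [mulVec_mulVec, ← Matrix.map_mul, Matrix.mul_sub, Matrix.mul_one, ← Matrix.mul_assoc,
        Matrix.map_sub ρ (map_sub ρ), hCH, sub_self, zero_mulVec])
    rw [hD, Matrix.map_mul, ← mulVec_mulVec, ← hw, mulVec_mulVec, ← Matrix.map_mul, Matrix.sub_mul,
      Matrix.one_mul, hG, sub_self, Matrix.map_zero ρ (map_zero ρ), zero_mulVec, zero_mulVec]
  constructor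
  · have h0 : C * D = 0 := by rw [hD0, Matrix.mul_zero]
    rw [hD, ← Matrix.mul_assoc, Matrix.mul_sub C 1, Matrix.mul_one, ← Matrix.mul_assoc, hCB,
      Matrix.zero_mul, sub_zero, Matrix.mul_sub, Matrix.mul_one, ← Matrix.mul_assoc, sub_eq_zero] at h0
    exact h0.symm
  · have h0 : D = 0 := hD0
    rw [hD, Matrix.sub_mul, Matrix.one_mul, sub_eq_zero] at h0
    rw [← Matrix.mul_assoc, ← h0, sub_add_cancel]

theorem split_of_piv {C : Matrix (Fin a) (Fin b) R} {B : Matrix (Fin b) (Fin c) R}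
    (hCB : C * B = 0) {r s : ℕ} (hC : Piv C r) (hB : Piv B s) (hrs : r + s = b) :
    ∃ g h, (1 : Matrix (Fin b) (Fin b) R) = B * g + h * C := by
  set ρ := IsLocalRing.residue R
  obtain ⟨f1, g1, hd1, hC'⟩ := hC
  obtain ⟨f2, g2, hd2, hB'⟩ := hB
  have hCB' : C.map ρ * B.map ρ = 0 := by rw [← Matrix.map_mul, hCB, Matrix.map_zero ρ (map_zero ρ)]
  have hr : (C.map ρ).rank + (B.map ρ).rank = b := by
    rw [rank_eq_of_factor (C.map ρ) f1 g1 (by rw [submatrix_map]; exact hd1.map ρ)
        (by rw [← ginv_map ρ C f1 g1 hd1, ← Matrix.map_mul, ← Matrix.map_mul, hC']),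
      rank_eq_of_factor (B.map ρ) f2 g2 (by rw [submatrix_map]; exact hd2.map ρ)
        (by rw [← ginv_map ρ B f2 g2 hd2, ← Matrix.map_mul, ← Matrix.map_mul, hB']), hrs]
  exact ⟨_, _, (split_lemma hCB hB' (ginv_mul_ginv C f1 g1 hd1) (by rw [hC'])
    (exists_of_rank_add _ _ hCB' hr)).2⟩

/-- The step over a local ring with an element killed by the maximal ideal. -/
theorem piv_of_exact {x : R} (hx0 : x ≠ 0) (hxm : ∀ y ∈ IsLocalRing.maximalIdeal R, y * x = 0)
    {C : Matrix (Fin a) (Fin b) R} {B : Matrix (Fin b) (Fin c) R} (hCB : C * B = 0) {s : ℕ}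
    (hB : Piv B s) (hex : ∀ z, C *ᵥ z = 0 → ∃ w, B *ᵥ w = z) :
    s ≤ b ∧ Piv C (b - s) := by
  classical
  set ρ := IsLocalRing.residue R
  obtain ⟨f2, g2, hd2, hB'⟩ := hB
  have hCB' : C.map ρ * B.map ρ = 0 := by rw [← Matrix.map_mul, hCB, Matrix.map_zero ρ (map_zero ρ)]
  have hexk : ∀ v, C.map ρ *ᵥ v = 0 → ∃ w, B.map ρ *ᵥ w = v := by
    intro vb hvb
    choose v hv using fun k => IsLocalRing.residue_surjective (vb k)
    have hvb' : vb = ρ ∘ v := funext fun k => (hv k).symm
    subst hvb'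
    have hmem : ∀ k, (C *ᵥ v) k ∈ IsLocalRing.maximalIdeal R := fun k =>
      (IsLocalRing.residue_eq_zero_iff _).mp (by
        rw [RingHom.map_mulVec]; exact congrFun hvb k)
    obtain ⟨w, hw⟩ := hex (x • v) (by
      rw [mulVec_smul]
      funext k
      rw [Pi.smul_apply, smul_eq_mul, mul_comm, hxm _ (hmem k)]
      rfl)
    refine ⟨(ginv B f2 g2).map ρ *ᵥ (ρ ∘ v), funext fun k => ?_⟩
    rw [mulVec_mulVec, ← Matrix.map_mul, ← RingHom.map_mulVec, Function.comp_apply]
    have hk : x * ((B * ginv B f2 g2) *ᵥ v) k = x * v k := by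
      have e1 : (B * ginv B f2 g2) *ᵥ (x • v) = x • v := by rw [← hw, mulVec_mulVec, hB']
      rw [mulVec_smul] at e1
      exact congrFun e1 k
    rw [← sub_eq_zero, ← map_sub, IsLocalRing.residue_eq_zero_iff, IsLocalRing.mem_maximalIdeal]
    intro hu
    refine hx0 (hu.mul_left_eq_zero.mp ?_)
    rw [mul_sub, hk, sub_self]
  have hr := rank_add_of_exists _ _ hCB' hexk
  rw [rank_eq_of_factor (B.map ρ) f2 g2 (by rw [submatrix_map]; exact hd2.map ρ)
    (by rw [← ginv_map ρ B f2 g2 hd2, ← Matrix.map_mul, ← Matrix.map_mul, hB'])] at hr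
  refine ⟨by omega, ?_⟩
  have hrC : (C.map ρ).rank = b - s := by omega
  obtain ⟨f1, g1, hd1⟩ := exists_minor_ne_zero (C.map ρ) hrC
  have hd1' : IsUnit (C.submatrix f1 g1).det :=
    isUnit_of_map_unit ρ _ (by rw [← submatrix_map]; exact hd1.isUnit)
  refine ⟨f1, g1, hd1', (split_lemma hCB hB' (ginv_mul_ginv C f1 g1 hd1') ?_ hexk).1⟩
  rw [Matrix.map_mul, Matrix.map_mul, ginv_map ρ C f1 g1 hd1']
  exact mul_ginv_mul_of_rank_le _ f1 g1 (by rw [submatrix_map]; exact hd1'.map ρ) hrC.le

end L02.CAlg.BE
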