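import Groth.Agent.L02.CAlg.BE.Criterion

/-!
Translation to finite complexes given by `A 0, …, A (e-1)`.
-/

set_option autoImplicit false

universe u

open Matrix CAlgX RingTheory.Sequence

namespace L02.CAlg.BE

variable {R : Type u} [CommRing R] {n : ℕ → ℕ} {e : ℕ}

/-- Zero out the matrices from index `e` on. -/
def trunc (A : Seq R n) (e : ℕ) : Seq R n := fun i => if i < e then A i else 0

theorem trunc_lt (A : Seq R n) {i : ℕ} (h : i < e) : trunc A e i = A i := if_pos h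

theorem trunc_ge (A : Seq R n) {i : ℕ} (h : e ≤ i) : trunc A e i = 0 := if_neg (not_lt.mpr h)

theorem trunc_comp {A : Seq R n} (hA : ∀ i, i + 2 ≤ e → A i * A (i + 1) = 0) (i : ℕ) :
    trunc A e i * trunc A e (i + 1) = 0 := by
  by_cases h : i + 2 ≤ e
  · rw [trunc_lt A (by omega), trunc_lt A (by omega), hA i h]
  · rw [trunc_ge A (show e ≤ i + 1 by omega), Matrix.mul_zero]

theorem exactLT_trunc_iff (A : Seq R n) (he : 1 ≤ e)
    (hA : ∀ i, i + 2 ≤ e → A i * A (i + 1) = 0) :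
    ExactLT (trunc A e) e ↔ (LinearMap.ker (A (e - 1)).mulVecLin = ⊥ ∧
      ∀ i, i + 2 ≤ e → LinearMap.ker (A i).mulVecLin = LinearMap.range (A (i + 1)).mulVecLin) := by
  constructor
  · intro h
    refine ⟨(Submodule.eq_bot_iff _).mpr fun z hz => ?_, fun i hi => le_antisymm (fun z hz => ?_) ?_⟩
    · obtain ⟨w, hw⟩ := h (e - 1) (by omega) z (by rw [trunc_lt A (by omega)]; simpa using hz)
      rwa [trunc_ge A (by omega), zero_mulVec, eq_comm] at hw
    · obtain ⟨w, hw⟩ := h i (by omega) z (by rw [trunc_lt A (by omega)]; simpa using hz)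
      rw [trunc_lt A (by omega)] at hw
      exact ⟨w, by simpa using hw⟩
    · rw [LinearMap.range_le_ker_iff, ← Matrix.mulVecLin_mul, hA i hi, Matrix.mulVecLin_zero]
  · rintro ⟨h0, h⟩ i hi z hz
    rw [trunc_lt A hi] at hz
    by_cases h2 : i + 2 ≤ e
    · have : z ∈ LinearMap.range (A (i + 1)).mulVecLin := h i h2 ▸ (by simpa using hz)
      rw [trunc_lt A (show i + 1 < e by omega)]
      simpa using this
    · have hie : i = e - 1 := by omega
      subst hie
      refine ⟨0, ?_⟩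
      rw [mulVec_zero, eq_comm, ← Submodule.mem_bot R, ← h0]
      simpa using hz

theorem altSum_succ (n : ℕ → ℕ) {j : ℕ} (h : j ≤ e) :
    ∑ t ∈ Finset.Icc j e, (-1 : ℤ) ^ (t - j) * (n t : ℤ) =
      n j - ∑ t ∈ Finset.Icc (j + 1) e, (-1 : ℤ) ^ (t - (j + 1)) * (n t : ℤ) := by
  rw [Finset.Icc_eq_cons_Ioc h, Finset.sum_cons, Nat.sub_self, pow_zero, one_mul, sub_eq_add_neg,
    ← Finset.sum_neg_distrib, ← Finset.Icc_add_one_left_eq_Ioc]
  congr 1
  refine Finset.sum_congr rfl fun t ht => ?_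
  rw [Finset.mem_Icc] at ht
  rw [show t - j = t - (j + 1) + 1 by omega, pow_succ]
  ring

theorem cast_eq_altSum (n : ℕ → ℕ) (r : ℕ → ℕ) (hre : r e = 0)
    (hr : ∀ i < e, r i + r (i + 1) = n (i + 1)) :
    ∀ i ≤ e, (r i : ℤ) = ∑ t ∈ Finset.Icc (i + 1) e, (-1 : ℤ) ^ (t - (i + 1)) * (n t : ℤ) := by
  intro i hi
  obtain ⟨k, rfl⟩ : ∃ k, e = i + k := ⟨e - i, by omega⟩
  induction k generalizing i with
  | zero => simp at hre ⊢; exact hre
  | succ k ih =>
    rw [altSum_succ n (by omega), show i + (k + 1) = i + 1 + k by omega,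
      ← ih (i + 1) (by rw [← hre]; congr 1; omega) (fun j hj => hr j (by omega)) (by omega)]
    have := hr i (by omega)
    omega

theorem exact_of_rank_and_depth [IsNoetherianRing R] (A : Seq R n) (he : 1 ≤ e)
    (hA : ∀ i, i + 2 ≤ e → A i * A (i + 1) = 0)
    (hrank : ∀ j, 1 ≤ j → j ≤ e →
      (matrixRank (A (j - 1)) : ℤ) = ∑ t ∈ Finset.Icc j e, (-1 : ℤ) ^ (t - j) * (n t : ℤ))
    (hdet : ∀ j, 1 ≤ j → j ≤ e →
      detIdeal (A (j - 1)) = ⊤ ∨
        ∃ rs : List R, rs.length = j ∧ (∀ r ∈ rs, r ∈ detIdeal (A (j - 1))) ∧ IsRegular R rs) :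
    LinearMap.ker (A (e - 1)).mulVecLin = ⊥ ∧
      ∀ i, i + 2 ≤ e → LinearMap.ker (A i).mulVecLin = LinearMap.range (A (i + 1)).mulVecLin := by
  rw [← exactLT_trunc_iff A he hA]
  refine exactLT_of_cond _ (fun i => if i < e then matrixRank (A i) else 0) e (trunc_comp hA)
    (trunc_ge A le_rfl) (if_neg (lt_irrefl e)) (fun i hi => ?_) (fun i hi => ?_)
  · have h1 : (matrixRank (A i) : ℤ) = _ := hrank (i + 1) (by omega) (by omega)
    rw [altSum_succ n (by omega)] at h1
    simp only [if_pos hi]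
    by_cases h : i + 1 < e
    · have h2 : (matrixRank (A (i + 1)) : ℤ) = _ := hrank (i + 1 + 1) (by omega) (by omega)
      rw [if_pos h]
      omega
    · rw [if_neg h]
      rw [show Finset.Icc (i + 1 + 1) e = ∅ from Finset.Icc_eq_empty (by omega), Finset.sum_empty] at h1
      omega
  · simp only [if_pos hi, trunc_lt A hi]
    refine ⟨minorIdeal_matrixRank_succ _, ?_⟩
    rcases hdet (i + 1) (by omega) (by omega) with h | ⟨rs, hl, hmem, hreg⟩
    · exact Or.inl h
    · exact Or.inr ⟨rs, hl, hmem, hreg.toIsWeaklyRegular⟩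

theorem rank_and_depth_of_exact [IsLocalRing R] [IsNoetherianRing R] (A : Seq R n) (he : 1 ≤ e)
    (hA : ∀ i, i + 2 ≤ e → A i * A (i + 1) = 0)
    (hex : LinearMap.ker (A (e - 1)).mulVecLin = ⊥ ∧
      ∀ i, i + 2 ≤ e → LinearMap.ker (A i).mulVecLin = LinearMap.range (A (i + 1)).mulVecLin) :
    ∀ j, 1 ≤ j → j ≤ e →
      (matrixRank (A (j - 1)) : ℤ) = ∑ t ∈ Finset.Icc j e, (-1 : ℤ) ^ (t - j) * (n t : ℤ) ∧
        (detIdeal (A (j - 1)) = ⊤ ∨
          ∃ rs : List R, rs.length = j ∧ (∀ r ∈ rs, r ∈ detIdeal (A (j - 1))) ∧ IsRegular R rs) := by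
  rw [← exactLT_trunc_iff A he hA] at hex
  intro j hj1 hj2
  obtain ⟨i, rfl⟩ : ∃ i, j = i + 1 := ⟨j - 1, by omega⟩
  rw [Nat.add_sub_cancel]
  have hi : i < e := by omega
  have hall := ranks_of_exact (trunc A e) e (trunc_comp hA) (trunc_ge A le_rfl) hex
  obtain ⟨-, hbot, x, hxI, hx⟩ := hall i hi
  rw [trunc_lt A hi] at hbot hxI
  have hne : minorIdeal (A i) (rk n e i) ≠ ⊥ := fun h => by
    rw [h, Submodule.mem_bot] at hxI
    subst hxI
    exact one_ne_zero (α := R) (hx (by simp [smul_eq_mul]))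
  have hrank : matrixRank (A i) = rk n e i := matrixRank_eq _ hne hbot
  refine ⟨by rw [hrank]; exact cast_eq_altSum n _ (rk_self n e) (fun k hk => (hall k hk).1) i hi.le, ?_⟩
  rw [detIdeal, hrank]
  by_cases htop : minorIdeal (A i) (rk n e i) = ⊤
  · exact Or.inl htop
  rcases cond_of_exact e R (trunc A e) (trunc_comp hA) (trunc_ge A le_rfl) hex i hi with
    h | ⟨rs, hl, hmem, hreg⟩
  · rw [trunc_lt A hi] at h
    exact absurd h htop
  · rw [trunc_lt A hi] at hmem
    refine Or.inr ⟨rs, hl, hmem, hreg, ?_⟩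
    intro h
    have hle : Ideal.ofList rs ≤ IsLocalRing.maximalIdeal R :=
      Ideal.span_le.mpr fun y hy => IsLocalRing.le_maximalIdeal htop (hmem y hy)
    rw [smul_eq_mul, Ideal.mul_top] at h
    exact (IsLocalRing.maximalIdeal.isMaximal R).ne_top (top_le_iff.mp (h.le.trans hle))

theorem exact_of_punctured [IsLocalRing R] [IsNoetherianRing R] (A : Seq R n) (he : 1 ≤ e)
    (hA : ∀ i, i + 2 ≤ e → A i * A (i + 1) = 0)
    (rs : List R) (hlen : rs.length = e) (hmem : ∀ x ∈ rs, x ∈ IsLocalRing.maximalIdeal R)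
    (hreg : IsRegular R rs)
    (hloc : ∀ (p : Ideal R) [p.IsPrime], p ≠ IsLocalRing.maximalIdeal R →
      LinearMap.ker ((A (e - 1)).map (algebraMap R (Localization.AtPrime p))).mulVecLin = ⊥ ∧
        ∀ i, i + 2 ≤ e →
          LinearMap.ker ((A i).map (algebraMap R (Localization.AtPrime p))).mulVecLin =
            LinearMap.range ((A (i + 1)).map (algebraMap R (Localization.AtPrime p))).mulVecLin) :
    LinearMap.ker (A (e - 1)).mulVecLin = ⊥ ∧
      ∀ i, i + 2 ≤ e → LinearMap.ker (A i).mulVecLin = LinearMap.range (A (i + 1)).mulVecLin := by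
  rw [← exactLT_trunc_iff A he hA]
  refine exactLT_of_torsion e (trunc A e) e (trunc_comp hA) (trunc_ge A le_rfl) rs hlen
    hreg.toIsWeaklyRegular ?_ (fun i h1 h2 => absurd h2 (not_lt.mpr h1))
  intro i hi z hz x hx
  refine torsion_of_localization (e := e) (fun Q _ hQ => ?_) i hi z hz x (hmem x hx)
  have e' : Seq.map (trunc A e) (algebraMap R (Localization.AtPrime Q)) =
      trunc (Seq.map A (algebraMap R (Localization.AtPrime Q))) e := funext fun i => by
    rw [Seq.map_apply, trunc, trunc]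
    split_ifs
    · rfl
    · ext; simp
  rw [e', exactLT_trunc_iff _ he (fun i hi => by
    rw [Seq.map_apply, Seq.map_apply, ← Matrix.map_mul, hA i hi]
    ext; simp)]
  exact hloc Q hQ

end L02.CAlg.BE
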